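import Mathlib.RingTheory.Ideal.Cotangent
import Mathlib.RingTheory.Jacobson.Ring
import Mathlib.RingTheory.Polynomial.Basic
import Mathlib.Algebra.MvPolynomial.Equiv
import Mathlib.LinearAlgebra.Dimension.Finrank
import Mathlib.Algebra.Polynomial.FieldDivision
import Mathlib.RingTheory.HopkinsLevitzki

/-!
# The cotangent space of a maximal ideal of a polynomial ring

`GrothLib.CotPoly.finrank_cotangent_mvPolynomial`: for an artinian local ring `A`, every maximal ideal
of `A[T₁,…,T_r]` has a cotangent space of dimension `dim (m/m²) + r`.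
-/

set_option autoImplicit false

universe u

namespace GrothLib.CotPoly

open Polynomial

section Equiv

variable {R S : Type u} [CommRing R] [CommRing S]

/-- The map of cotangent spaces along a ring homomorphism. -/
noncomputable def cotMap (h : R →+* S) (I : Ideal R) (J : Ideal S) (hIJ : I ≤ J.comap h) :
    I.Cotangent →+ J.Cotangent :=
  (Ideal.mapCotangent I J h.toIntAlgHom hIJ).toAddMonoidHom

theorem cotMap_toCotangent (h : R →+* S) (I : Ideal R) (J : Ideal S) (hIJ : I ≤ J.comap h) (x : I) :
    cotMap h I J hIJ (I.toCotangent x) = J.toCotangent ⟨h x, hIJ x.2⟩ := rfl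

theorem cotMap_smul (h : R →+* S) (I : Ideal R) (J : Ideal S) (hIJ : I ≤ J.comap h) (r : R)
    (v : I.Cotangent) : cotMap h I J hIJ (r • v) = h r • cotMap h I J hIJ v := by
  obtain ⟨x, rfl⟩ := I.toCotangent_surjective v
  rw [← map_smul, cotMap_toCotangent, cotMap_toCotangent, ← map_smul]
  exact congrArg _ (Subtype.ext (map_mul h r x))

theorem finrank_cotangent_equiv (e : R ≃+* S) (I : Ideal R) (J : Ideal S)
    (hIJ : J.comap (e : R →+* S) = I) :
    Module.finrank (R ⧸ I) I.Cotangent = Module.finrank (S ⧸ J) J.Cotangent := by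
  have h1 : I ≤ J.comap (e : R →+* S) := hIJ.ge
  have h2 : J ≤ I.comap (e.symm : S →+* R) := fun y hy => by
    rw [Ideal.mem_comap, ← hIJ, Ideal.mem_comap]
    simpa using hy
  let j : I.Cotangent ≃+ J.Cotangent :=
    { cotMap (e : R →+* S) I J h1 with
      invFun := cotMap (e.symm : S →+* R) J I h2
      left_inv := fun v => by
        obtain ⟨x, rfl⟩ := I.toCotangent_surjective v
        exact congrArg I.toCotangent (Subtype.ext (e.symm_apply_apply x.1))
      right_inv := fun v => by
        obtain ⟨x, rfl⟩ := J.toCotangent_surjective v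
        exact congrArg J.toCotangent (Subtype.ext (e.apply_symm_apply x.1)) }
  let i : R ⧸ I ≃+* S ⧸ J := Ideal.quotientEquiv I J e (by
    rw [← hIJ]; exact (Ideal.map_comap_of_surjective (e : R →+* S) e.surjective J).symm)
  refine congrArg Cardinal.toNat (rank_eq_of_equiv_equiv i j i.bijective fun r v => ?_)
  obtain ⟨r, rfl⟩ := Ideal.Quotient.mk_surjective r
  exact cotMap_smul (e : R →+* S) I J h1 r v

end Equiv

variable {R : Type u} [CommRing R]

theorem finrank_cotangent_polynomial [IsNoetherianRing R] (P : Ideal R[X]) [P.IsMaximal]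
    (q : Ideal R) (hqP : P.comap Polynomial.C = q) [q.IsMaximal] :
    Module.finrank (R[X] ⧸ P) P.Cotangent = Module.finrank (R ⧸ q) q.Cotangent + 1 := by
  classical
  let _ : Field (R ⧸ q) := Ideal.Quotient.field q
  let _ : Field (R[X] ⧸ P) := Ideal.Quotient.field P
  have : Module.Finite R q.Cotangent := Module.Finite.of_surjective q.toCotangent q.toCotangent_surjective
  have : Module.Finite (R ⧸ q) q.Cotangent := Module.Finite.of_restrictScalars_finite R _ _
  let b := Module.finBasis (R ⧸ q) q.Cotangent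
  choose x hx using fun i => q.toCotangent_surjective (b i)
  set Q : Ideal R[X] := q.map Polynomial.C
  have hQP : Q ≤ P := Ideal.map_le_iff_le_comap.2 hqP.ge
  let π : R[X] →+* (R ⧸ q)[X] := mapRingHom (Ideal.Quotient.mk q)
  have hπ : ∀ f, π f = 0 ↔ f ∈ Q := fun f => by
    simp only [π, coe_mapRingHom, Polynomial.ext_iff, coeff_map, coeff_zero, Q, Ideal.mem_map_C_iff,
      Ideal.Quotient.eq_zero_iff_mem]
  have hπs : Function.Surjective π := map_surjective _ Ideal.Quotient.mk_surjective
  obtain ⟨g, hg⟩ := IsPrincipalIdealRing.principal (P.map π)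
  obtain ⟨h, hhP, rfl⟩ := (Ideal.mem_map_iff_of_surjective π hπs).1
    (hg ▸ Submodule.mem_span_singleton_self g : g ∈ P.map π)
  have hdec : ∀ f ∈ P, ∃ e, f - h * e ∈ Q := fun f hf => by
    have := Ideal.mem_map_of_mem π hf
    rw [hg, Submodule.mem_span_singleton] at this
    obtain ⟨e, he⟩ := this
    obtain ⟨e, rfl⟩ := hπs e
    refine ⟨e, (hπ _).1 ?_⟩
    rw [map_sub, map_mul, ← he, smul_eq_mul, mul_comm, sub_self]
  have hh0 : π h ≠ 0 := fun h0 => by
    have hPQ : ∀ f ∈ P, f ∈ Q := fun f hf => by
      obtain ⟨e, he⟩ := hdec f hf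
      simpa using Q.add_mem he (Ideal.mul_mem_right e Q ((hπ h).1 h0))
    by_cases hX : (Polynomial.X : R[X]) ∈ P
    · have := (Ideal.mem_map_C_iff.1 (hPQ _ hX)) 1
      rw [coeff_X_one] at this
      exact ‹q.IsMaximal›.ne_top ((q.eq_top_iff_one).2 this)
    · obtain ⟨a, i, hi, hai⟩ := ‹P.IsMaximal›.exists_inv hX
      have := (Ideal.mem_map_C_iff.1 (hPQ _ hi)) 0
      rw [← eq_sub_iff_add_eq'] at hai
      rw [hai, coeff_sub, coeff_one_zero, coeff_mul_X_zero, sub_zero] at this
      exact ‹q.IsMaximal›.ne_top ((q.eq_top_iff_one).2 this)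
  have hxP : ∀ i, Polynomial.C (x i : R) ∈ P := fun i => hQP (Ideal.mem_map_of_mem _ (x i).2)
  let y : Option (Fin (Module.finrank (R ⧸ q) q.Cotangent)) → P :=
    fun o => o.elim ⟨h, hhP⟩ fun i => ⟨Polynomial.C (x i : R), hxP i⟩
  have hqdec : ∀ a ∈ q, ∃ r : Fin (Module.finrank (R ⧸ q) q.Cotangent) → R,
      a - ∑ i, r i * x i ∈ q ^ 2 := fun a ha => by
    choose r hr using fun i => Ideal.Quotient.mk_surjective (b.repr (q.toCotangent ⟨a, ha⟩) i)
    refine ⟨r, ?_⟩
    have e : q.toCotangent ⟨a, ha⟩ = q.toCotangent (∑ i, r i • x i) := by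
      rw [map_sum]
      conv_lhs => rw [← b.sum_repr (q.toCotangent ⟨a, ha⟩)]
      refine Finset.sum_congr rfl fun i _ => ?_
      rw [← hr, ← hx, map_smul]
      exact IsScalarTower.algebraMap_smul (R ⧸ q) (r i) (q.toCotangent (x i))
    rw [Ideal.toCotangent_eq] at e
    simpa using e
  have hq2 : ∀ z ∈ q ^ 2, Polynomial.C z ∈ P ^ 2 := fun z hz => by
    have := Ideal.mem_map_of_mem (Polynomial.C : R →+* R[X]) hz
    rw [Ideal.map_pow] at this
    exact Ideal.pow_right_mono hQP 2 this
  have hspan : ⊤ ≤ Submodule.span (R[X] ⧸ P) (Set.range fun o => P.toCotangent (y o)) := by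
    rintro v -
    obtain ⟨⟨f, hf⟩, rfl⟩ := P.toCotangent_surjective v
    set W := (Submodule.span (R[X] ⧸ P) (Set.range fun o => P.toCotangent (y o))).restrictScalars R[X]
    let K : Ideal R[X] := (Submodule.comap P.toCotangent W).map P.subtype
    have hK : ∀ z, z ∈ K → ∀ hz : z ∈ P, P.toCotangent ⟨z, hz⟩ ∈ W := by
      rintro _ ⟨⟨z, hz'⟩, hzW, rfl⟩ hz
      exact hzW
    have hyK : ∀ o, (y o : R[X]) ∈ K := fun o => ⟨y o, Submodule.subset_span ⟨o, rfl⟩, rfl⟩
    have h2K : P ^ 2 ≤ K := fun z hz =>
      ⟨⟨z, Ideal.pow_le_self two_ne_zero hz⟩, by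
        rw [SetLike.mem_coe, Submodule.mem_comap, (P.toCotangent_eq_zero _).2 hz]
        exact W.zero_mem, rfl⟩
    have hQK : Q ≤ K := Ideal.map_le_iff_le_comap.2 fun a ha => by
      obtain ⟨r, hr⟩ := hqdec a ha
      have : Polynomial.C a = Polynomial.C (a - ∑ i, r i * x i) +
          ∑ i, Polynomial.C (r i) * (y (some i) : R[X]) := by
        simp [y, map_sub, map_sum]
      rw [Ideal.mem_comap, this]
      exact K.add_mem (h2K (hq2 _ hr)) (K.sum_mem fun i _ => K.mul_mem_left _ (hyK (some i)))
    obtain ⟨e, he⟩ := hdec f hf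
    refine hK f ?_ hf
    have : f = (f - h * e) + e * (y none : R[X]) := by simp [y]; ring
    rw [this]
    exact K.add_mem (hQK he) (K.mul_mem_left _ (hyK none))
  have hli : LinearIndependent (R[X] ⧸ P) fun o => P.toCotangent (y o) := by
    rw [Fintype.linearIndependent_iff]
    intro g hg o
    choose c hc using fun o => Ideal.Quotient.mk_surjective (g o)
    have hsum : ∑ o, c o * (y o : R[X]) ∈ P ^ 2 := by
      have : P.toCotangent (∑ o, c o • y o) = 0 := by
        rw [map_sum, ← hg]
        refine Finset.sum_congr rfl fun o _ => ?_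
        rw [map_smul, ← hc]
        exact (IsScalarTower.algebraMap_smul (R[X] ⧸ P) (c o) (P.toCotangent (y o))).symm
      rw [Ideal.toCotangent_eq_zero] at this
      simpa using this
    rw [Fintype.sum_option] at hsum
    have hP2 : P ^ 2 ≤ Q * P ⊔ Ideal.span {h * h} := by
      rw [sq, Ideal.mul_le]
      intro r hr s hs
      obtain ⟨e₁, he₁⟩ := hdec r hr
      obtain ⟨e₂, he₂⟩ := hdec s hs
      rw [show r * s = (r - h * e₁) * s + (s - h * e₂) * (h * e₁) + e₁ * e₂ * (h * h) by ring]
      exact add_mem (add_mem (Ideal.mem_sup_left (Ideal.mul_mem_mul he₁ hs))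
        (Ideal.mem_sup_left (Ideal.mul_mem_mul he₂ (P.mul_mem_right e₁ hhP))))
        (Ideal.mem_sup_right (Ideal.mul_mem_left _ _ (Ideal.mem_span_singleton_self _)))
    obtain ⟨w, hw, s, hs, hws⟩ := Submodule.mem_sup.1 (hP2 hsum)
    obtain ⟨e, rfl⟩ := Ideal.mem_span_singleton'.1 hs
    have hxQ : ∀ i, π (Polynomial.C (x i : R)) = 0 := fun i =>
      (hπ _).2 (Ideal.mem_map_of_mem _ (x i).2)
    have hcn : c none - e * h ∈ Q := (hπ _).1 <| by
      have h' := congrArg π hws
      simp only [y, Option.elim, map_add, map_mul, map_sum, hxQ, mul_zero, Finset.sum_const_zero,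
        add_zero, (hπ w).2 (Ideal.mul_le_left (I := Q) (J := P) hw)] at h'
      rw [map_sub, map_mul]
      refine mul_right_cancel₀ hh0 ?_ |> sub_eq_zero.2
      linear_combination -h'
    have hrest : ∑ i, c (some i) * Polynomial.C (x i : R) ∈ Q * P := by
      have : ∑ i, c (some i) * Polynomial.C (x i : R) = w - (c none - e * h) * h := by
        simp only [y, Option.elim] at hws
        linear_combination -hws
      rw [this]
      exact sub_mem hw (Ideal.mul_mem_mul hcn hhP)
    have hQle : Q ≤ Ideal.span (Set.range fun i => Polynomial.C (x i : R)) ⊔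
        (q ^ 2).map Polynomial.C := Ideal.map_le_iff_le_comap.2 fun a ha => by
      obtain ⟨r, hr⟩ := hqdec a ha
      rw [Ideal.mem_comap, show Polynomial.C a = ∑ i, Polynomial.C (r i) * Polynomial.C (x i : R) +
        Polynomial.C (a - ∑ i, r i * x i) by simp [map_sub, map_sum]]
      exact add_mem (Ideal.mem_sup_left (sum_mem fun i _ =>
        Ideal.mul_mem_left _ _ (Ideal.subset_span ⟨i, rfl⟩)))
        (Ideal.mem_sup_right (Ideal.mem_map_of_mem _ hr))
    have h2 : ∑ i, c (some i) * Polynomial.C (x i : R) ∈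
        P • Ideal.span (Set.range fun i => Polynomial.C (x i : R)) ⊔ (q ^ 2).map Polynomial.C := by
      refine (?_ : Q * P ≤ _) hrest
      refine (Ideal.mul_mono hQle le_rfl).trans ?_
      rw [Ideal.sup_mul, smul_eq_mul, mul_comm P]
      exact sup_le_sup le_rfl (Ideal.mul_le_left (I := (q ^ 2).map Polynomial.C) (J := P))
    obtain ⟨w₁, hw₁, z, hz, hwz⟩ := Submodule.mem_sup.1 h2
    obtain ⟨p, hp, rfl⟩ := (Submodule.mem_ideal_smul_span_iff_exists_sum P _ _).1 hw₁
    have hsome : ∀ i, c (some i) - p i ∈ Q := by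
      intro i
      rw [Ideal.mem_map_C_iff]
      intro k
      have hz' : z = ∑ i, (c (some i) - p i) * Polynomial.C (x i : R) := by
        rw [Finsupp.sum_fintype p _ (fun i => zero_smul R[X] (Polynomial.C (x i : R)))] at hwz
        simp only [smul_eq_mul] at hwz
        simp only [sub_mul, Finset.sum_sub_distrib]
        linear_combination hwz
      have hk := Ideal.mem_map_C_iff.1 hz k
      rw [hz', finsetSum_coeff] at hk
      simp only [coeff_mul_C] at hk
      have h0 : ∑ i, Ideal.Quotient.mk q ((c (some i) - p i).coeff k) • b i = 0 := by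
        rw [← (Ideal.toCotangent_eq_zero q (∑ i, (c (some i) - p i).coeff k • x i)).2 (by simpa using hk),
          map_sum]
        refine Finset.sum_congr rfl fun i _ => ?_
        rw [← hx, map_smul]
        exact IsScalarTower.algebraMap_smul (R ⧸ q) ((c (some i) - p i).coeff k) (q.toCotangent (x i))
      exact Ideal.Quotient.eq_zero_iff_mem.1 (Fintype.linearIndependent_iff.1 b.linearIndependent _ h0 i)
    rw [← hc, Ideal.Quotient.eq_zero_iff_mem]
    cases o with
    | none => simpa using P.add_mem (hQP hcn) (P.mul_mem_left e hhP)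
    | some i => simpa using P.add_mem (hQP (hsome i)) (hp i)
  rw [Module.finrank_eq_card_basis (Module.Basis.mk hli hspan), Fintype.card_option, Fintype.card_fin]

/-- The cotangent space of a maximal ideal of a polynomial ring over an artinian local ring. -/
theorem finrank_cotangent_mvPolynomial {A : Type u} [CommRing A] [IsArtinianRing A] [IsLocalRing A]
    (r : ℕ) (P : Ideal (MvPolynomial (Fin r) A)) [P.IsMaximal] :
    Module.finrank (MvPolynomial (Fin r) A ⧸ P) P.Cotangent =
      Module.finrank (IsLocalRing.ResidueField A) (IsLocalRing.CotangentSpace A) + r := by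
  induction r with
  | zero =>
    let e := (MvPolynomial.isEmptyRingEquiv A (Fin 0)).symm
    have : (P.comap (e : A →+* MvPolynomial (Fin 0) A)).IsMaximal :=
      Ideal.comap_isMaximal_of_surjective _ e.surjective
    rw [← finrank_cotangent_equiv e _ P rfl, Nat.add_zero]
    rw [IsLocalRing.eq_maximalIdeal this]
    rfl
  | succ r ih =>
    let e := (MvPolynomial.finSuccEquiv A r).toRingEquiv.symm
    let P' := P.comap (e : (MvPolynomial (Fin r) A)[X] →+* MvPolynomial (Fin (r + 1)) A)
    have : P'.IsMaximal := Ideal.comap_isMaximal_of_surjective _ e.surjective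
    have : (P'.comap Polynomial.C).IsMaximal := Polynomial.isMaximal_comap_C_of_isJacobsonRing P'
    rw [← finrank_cotangent_equiv e P' P rfl, finrank_cotangent_polynomial P' _ rfl,
      ih (P'.comap Polynomial.C), Nat.add_assoc]

end GrothLib.CotPoly
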