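import Mathlib.RingTheory.Kaehler.Basic
import Mathlib.RingTheory.Derivation.ToSquareZero
import Mathlib.RingTheory.Ideal.Quotient.Operations

/-!
# Relations between differentials and square-zero lifts

`GrothLib.KerDiff.sum_mul_sub_eq_zero`: a relation `∑ c i • (1 ⊗ d x i) = 0` in `C ⊗ Ω_{A/R}` gives
`∑ c i * (f (x i) - x i) = 0` for every lift `f` of `A → B/I` to a square-zero extension killed by
`ker (A → C)`.
-/

set_option autoImplicit false

namespace GrothLib.KerDiff

open TensorProduct

variable {R A C B : Type*} [CommRing R] [CommRing A] [CommRing C] [CommRing B]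
  [Algebra R A] [Algebra A C] [Algebra R B] [Algebra A B] [IsScalarTower R A B]

theorem sum_mul_sub_eq_zero (hsurj : Function.Surjective (algebraMap A C)) (I : Ideal B)
    (hI : I ^ 2 = ⊥) (f : A →ₐ[R] B) (hf : ∀ a, f a - algebraMap A B a ∈ I)
    (hJ : ∀ a ∈ RingHom.ker (algebraMap A C), algebraMap A B a ∈ I)
    {ι : Type*} (s : Finset ι) (c x : ι → A)
    (h : ∑ i ∈ s, algebraMap A C (c i) • ((1 : C) ⊗ₜ[A] KaehlerDifferential.D R A (x i)) = 0) :
    ∑ i ∈ s, algebraMap A B (c i) * (f (x i) - algebraMap A B (x i)) = 0 := by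
  let δ : Derivation R A I := derivationToSquareZeroOfLift I hI f
    (AlgHom.ext fun a => Ideal.Quotient.eq.2 (hf a))
  let e := (Algebra.linearMap A C).quotKerEquivOfSurjective hsurj
  let β : (A ⧸ LinearMap.ker (Algebra.linearMap A C)) →ₗ[A] (Ω[A⁄R] →ₗ[A] I) :=
    Submodule.liftQ _ (LinearMap.toSpanSingleton A _ δ.liftKaehlerDifferential) fun a ha => by
      refine LinearMap.mem_ker.2 (LinearMap.ext fun ω => Subtype.ext ?_)
      change a • (δ.liftKaehlerDifferential ω : B) = 0
      rw [Algebra.smul_def]
      have := Ideal.mul_mem_mul (hJ a ha) (δ.liftKaehlerDifferential ω).2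
      rwa [← sq, hI, Ideal.mem_bot] at this
  let Φ : C ⊗[A] Ω[A⁄R] →ₗ[A] I := TensorProduct.lift (β ∘ₗ e.symm.toLinearMap)
  have key : ∀ a b, (Φ (algebraMap A C a • ((1 : C) ⊗ₜ[A] KaehlerDifferential.D R A b)) : B) =
      algebraMap A B a * (f b - algebraMap A B b) := by
    intro a b
    rw [TensorProduct.smul_tmul', smul_eq_mul, mul_one]
    have he : e.symm (algebraMap A C a) = Submodule.Quotient.mk a := by
      rw [LinearEquiv.symm_apply_eq]; rfl
    simp only [Φ, TensorProduct.lift.tmul, LinearMap.comp_apply, LinearEquiv.coe_coe, he, β,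
      Submodule.liftQ_apply, LinearMap.toSpanSingleton_apply, LinearMap.smul_apply,
      Derivation.liftKaehlerDifferential_comp_D]
    change a • (δ b : B) = _
    rw [Algebra.smul_def, derivationToSquareZeroOfLift_apply]
  have h' := congrArg (fun z => (Φ z : B)) h
  simp only [map_sum, AddSubmonoidClass.coe_finsetSum, key, map_zero, ZeroMemClass.coe_zero] at h'
  exact h'

/-- An element of the kernel of `A → C` with vanishing differential dies in every square-zero
extension of `C` through which `A → C` factors and which admits a section. -/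
theorem algebraMap_eq_zero [Algebra R C] [IsScalarTower R A C]
    (hsurj : Function.Surjective (algebraMap A C)) (I : Ideal B) (hI : I ^ 2 = ⊥) (σ : C →ₐ[R] B)
    (hσ : ∀ a, σ (algebraMap A C a) - algebraMap A B a ∈ I) (x : A)
    (hx : algebraMap A C x = 0) (h : (1 : C) ⊗ₜ[A] KaehlerDifferential.D R A x = 0) :
    algebraMap A B x = 0 := by
  have hJ : ∀ a ∈ RingHom.ker (algebraMap A C), algebraMap A B a ∈ I := fun a ha => by
    have := hσ a
    rw [RingHom.mem_ker.1 ha, map_zero, zero_sub] at this
    exact neg_mem_iff.1 this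
  have := sum_mul_sub_eq_zero hsurj I hI (σ.comp (IsScalarTower.toAlgHom R A C)) hσ hJ
    ({()} : Finset Unit) (fun _ => 1) (fun _ => x)
    (by rw [Finset.sum_singleton, map_one, one_smul]; exact h)
  rw [Finset.sum_singleton, map_one, one_mul, AlgHom.comp_apply, IsScalarTower.toAlgHom_apply, hx,
    map_zero, zero_sub, neg_eq_zero] at this
  exact this

end GrothLib.KerDiff
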